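import Groth.Agent.L02.PicProper.Points
import Groth.Agent.L02.PicGrpObj.Main
import Groth.Agent.L02.PicLft.Main
import Groth.Agent.L26.AbDual.Cancel
import Groth.Agent.L21.Extend.Split
import Groth.Agent.L11.SmRegular.Basic
import Groth.Agent.L19.MonoValuative
import Groth.Agent.S2821
import Mathlib.AlgebraicGeometry.Morphisms.UniversallyOpen
import Mathlib.AlgebraicGeometry.Morphisms.Proper

/-!
# Separatedness and properness of the Picard scheme of a proper smooth morphism
-/

set_option autoImplicit false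
set_option linter.style.haveILetI false
set_option linter.unusedSectionVars false
set_option backward.isDefEq.respectTransparency false
set_option backward.isDefEq.respectTransparency.types false

universe u

open CategoryTheory CategoryTheory.Limits AlgebraicGeometry TopologicalSpace Opposite IsLocalRing

noncomputable section

namespace Groth.L02.PicProper

open Groth.L02.PicEtale
open Groth.Agent.AbDualLib (oneCl cl_congr mulCl_comm pullCl_mulCl pullCl_oneCl isInvertibleCl_mulCl mulCl_right_cancel)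

variable {X S : Scheme.{u}} {f : X ⟶ S} {P : Over S}
  {φ : ∀ T : Over S, PicF.Cl (PicF.XT f T) → (T ⟶ P)} (hP : PicRel.IsRelPic f P φ)

theorem isRegularLocalRing_stalk_spec (R : Type u) [CommRing R] [IsDomain R] [IsDiscreteValuationRing R]
    (p : Spec (CommRingCat.of R)) : IsRegularLocalRing ((Spec (CommRingCat.of R)).presheaf.stalk p) := by
  haveI : IsRegularRing R := inferInstance
  exact IsRegularLocalRing.of_ringEquiv (R := Localization.AtPrime p.asIdeal)
    (StructureSheaf.stalkIso R p).toRingEquiv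

include hP in
/-- Classes over a DVR agreeing on the generic fibre give the same point over the closed point. -/
theorem φ_closedPoint_eq [Smooth f] {R : Type u} [CommRing R] [IsDomain R] [IsDiscreteValuationRing R]
    {K : Type u} [Field K] [Algebra R K] [IsFractionRing R K] (h : Spec (CommRingCat.of R) ⟶ S)
    {c d : PicF.Cl (PicF.XT f (fpt h))} (hc : PicF.IsInvertibleCl c) (hd : PicF.IsInvertibleCl d)
    (e : PicF.pullCl (PicF.XTmap f (bmap (algebraMap R K) h)) c = PicF.pullCl (PicF.XTmap f (bmap (algebraMap R K) h)) d) :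
    (φ _ c).left (closedPoint R) = (φ _ d).left (closedPoint R) := by
  obtain ⟨n, hn, hdn⟩ := Groth.L02.PicGrpObj.exists_inverseCl hd
  obtain ⟨L, hcL, hL⟩ := isInvertibleCl_mulCl hc hn
  have h1 : PicF.pullCl (PicF.XTmap f (bmap (algebraMap R K) h)) (PicF.cl L) = oneCl _ := by
    rw [hcL, pullCl_mulCl, e, ← pullCl_mulCl, hdn, pullCl_oneCl]
  have h2 : PicF.pullCl (PicF.XTmap f (bmap (residue R) h)) (PicF.cl L) = oneCl _ :=
    cl_congr (nonempty_iso_closedFibre f h hL (nonempty_iso_of_cl_eq h1)).some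
  have h3 : PicF.pullCl (PicF.XTmap f (bmap (residue R) h)) c = PicF.pullCl (PicF.XTmap f (bmap (residue R) h)) d :=
    mulCl_right_cancel (PicLoc.isInvertibleCl_pullCl _ hc) (PicLoc.isInvertibleCl_pullCl _ hd)
      (PicLoc.isInvertibleCl_pullCl _ hn)
      (by rw [← pullCl_mulCl, ← pullCl_mulCl, hdn, pullCl_oneCl, ← hcL]; exact h2)
  have h4 : bmap (residue R) h ≫ φ _ c = bmap (residue R) h ≫ φ _ d := by
    rw [← hP.natural _ _ _ _ hc, ← hP.natural _ _ _ _ hd, h3]
  have h5 : (bmap (residue R) h).left (closedPoint (ResidueField R)) = closedPoint R :=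
    IsLocalRing.comap_closedPoint (residue R)
  have h6 := congrArg (fun g : fpt (Spec.map (CommRingCat.ofHom (residue R)) ≫ h) ⟶ P =>
    g.left (closedPoint (ResidueField R))) h4
  simp only [Over.comp_left, Scheme.Hom.comp_apply] at h6
  rwa [h5] at h6

include hP in
/-- Two points over a valuation ring which agree generically agree at the closed point. -/
theorem closedPoint_eq_of_generic [Smooth f] {k : Type u} [Field k] (V : ValuationSubring k)
    [IsDiscreteValuationRing V] (h : Spec (CommRingCat.of V) ⟶ S) (g₁ g₂ : fpt h ⟶ P)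
    (e : bmap V.subtype h ≫ g₁ = bmap V.subtype h ≫ g₂) :
    g₁.left (closedPoint V) = g₂.left (closedPoint V) := by
  obtain ⟨E, v, z, c, d, hv, hz, hc, hd, hc₁, hd₁⟩ := Groth.L02.PicGrpObj.exists_class₂ hP g₁ g₂ (closedPoint V)
  haveI := hv
  haveI : IsLocallyNoetherian (fpt h).left := inferInstanceAs (IsLocallyNoetherian (Spec (CommRingCat.of V)))
  haveI : IsLocallyNoetherian E.left := LocallyOfFiniteType.isLocallyNoetherian v.left
  obtain ⟨ϖ, hϖ⟩ := IsDiscreteValuationRing.exists_irreducible V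
  obtain ⟨hj, hjr⟩ := isOpenImmersion_generic V hϖ k
  haveI := hj
  let η : Spec (CommRingCat.of V) := Spec.map (CommRingCat.ofHom (algebraMap V k)) (closedPoint k)
  obtain ⟨x₁, hx₁, hvx₁⟩ : ∃ x₁, x₁ ⤳ z ∧ v.left x₁ = η :=
    Flat.generalizingMap v.left (show η ⤳ v.left z by rw [hz]; exact IsLocalRing.specializes_closedPoint _)
  have hne : x₁ ≠ z := fun h0 => by
    have h1 : η ∈ PrimeSpectrum.basicOpen ϖ := by
      rw [← SetLike.mem_coe, ← hjr]; exact ⟨_, rfl⟩
    rw [← hvx₁, h0, hz] at h1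
    exact h1 hϖ.not_isUnit
  obtain ⟨W, t, hW, ht₀, ht₁⟩ := Groth.L19.exists_dvr_through hx₁ hne
  haveI := hW
  let hWS : Spec (CommRingCat.of W) ⟶ S := t ≫ E.hom
  let q : fpt hWS ⟶ E := Over.homMk t rfl
  have hgen : Set.range (Spec.map (CommRingCat.ofHom W.subtype) ≫ t ≫ v.left) ⊆
      Set.range (Spec.map (CommRingCat.ofHom V.subtype)) := by
    rintro _ ⟨p, rfl⟩
    rw [Subsingleton.elim (α := PrimeSpectrum (E.left.residueField x₁)) p (closedPoint _)]
    refine ⟨closedPoint k, ?_⟩
    rw [← Category.assoc, Scheme.Hom.comp_apply _ v.left, ht₁, hvx₁]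
    rfl
  haveI : IsOpenImmersion (Spec.map (CommRingCat.ofHom V.subtype)) := hj
  let l := IsOpenImmersion.lift (Spec.map (CommRingCat.ofHom V.subtype))
    (Spec.map (CommRingCat.ofHom W.subtype) ≫ t ≫ v.left) hgen
  let η' : fpt (Spec.map (CommRingCat.ofHom W.subtype) ≫ hWS) ⟶ fpt (Spec.map (CommRingCat.ofHom V.subtype) ≫ h) :=
    Over.homMk l (by
      show l ≫ Spec.map _ ≫ h = Spec.map _ ≫ hWS
      rw [IsOpenImmersion.lift_fac_assoc, Category.assoc, Category.assoc]
      exact congrArg (fun x => _ ≫ t ≫ x) (Over.w v))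
  have hη : bmap W.subtype hWS ≫ q ≫ v = η' ≫ bmap V.subtype h :=
    Over.OverMorphism.ext (IsOpenImmersion.lift_fac _ _ hgen).symm
  let c₁ := PicF.pullCl (PicF.XTmap f q) c
  let d₁ := PicF.pullCl (PicF.XTmap f q) d
  have hic₁ : PicF.IsInvertibleCl c₁ := PicLoc.isInvertibleCl_pullCl _ hc
  have hid₁ : PicF.IsInvertibleCl d₁ := PicLoc.isInvertibleCl_pullCl _ hd
  have hφ : φ _ (PicF.pullCl (PicF.XTmap f (bmap W.subtype hWS)) c₁) =
      φ _ (PicF.pullCl (PicF.XTmap f (bmap W.subtype hWS)) d₁) := by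
    rw [hP.natural _ _ _ _ hic₁, hP.natural _ _ _ _ hid₁, hP.natural _ _ _ _ hc, hP.natural _ _ _ _ hd, hc₁, hd₁,
      reassoc_of% hη, reassoc_of% hη, e]
  obtain ⟨L, _, _, _, hL⟩ := exists_eq_field hP _ (PicLoc.isInvertibleCl_pullCl _ hic₁)
    (PicLoc.isInvertibleCl_pullCl _ hid₁) hφ
  obtain ⟨R, hR, ρ, hρ, hρL, -⟩ := exists_dvr_ext W L
  haveI := hR
  haveI := hρ
  let q' := bmap ρ hWS
  have hsq : Spec.map (CommRingCat.ofHom R.subtype) ≫ Spec.map (CommRingCat.ofHom ρ) =
      Spec.map (CommRingCat.ofHom (algebraMap (E.left.residueField x₁) L)) ≫ Spec.map (CommRingCat.ofHom W.subtype) := by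
    rw [← Spec.map_comp, ← Spec.map_comp]
    exact congrArg Spec.map (CommRingCat.hom_ext (RingHom.ext hρL))
  let r : fpt (Spec.map (CommRingCat.ofHom (algebraMap R L)) ≫ Spec.map (CommRingCat.ofHom ρ) ≫ hWS) ⟶
      fpt (Spec.map (CommRingCat.ofHom (algebraMap (E.left.residueField x₁) L)) ≫
        Spec.map (CommRingCat.ofHom W.subtype) ≫ hWS) := Over.homMk (𝟙 _) (by
    show 𝟙 _ ≫ _ = _
    rw [Category.id_comp]
    exact ((Category.assoc _ _ _).symm.trans (congrArg (· ≫ hWS) hsq.symm)).trans (Category.assoc _ _ _))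
  have hr : bmap (algebraMap R L) (Spec.map (CommRingCat.ofHom ρ) ≫ hWS) ≫ q' =
      r ≫ bmap (algebraMap (E.left.residueField x₁) L) _ ≫ bmap W.subtype hWS := by
    refine Over.OverMorphism.ext ?_
    show Spec.map (CommRingCat.ofHom R.subtype) ≫ Spec.map _ = 𝟙 _ ≫ _ ≫ _
    rw [Category.id_comp]
    exact hsq
  have key := φ_closedPoint_eq hP (R := R) (K := L) (Spec.map (CommRingCat.ofHom ρ) ≫ hWS)
    (c := PicF.pullCl (PicF.XTmap f q') c₁) (d := PicF.pullCl (PicF.XTmap f q') d₁)
    (PicLoc.isInvertibleCl_pullCl _ hic₁) (PicLoc.isInvertibleCl_pullCl _ hid₁) (by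
      rw [pullCl_XTmap_comp f _ q' c₁, pullCl_XTmap_comp f _ q' d₁, hr, ← pullCl_XTmap_comp f r _ c₁,
        ← pullCl_XTmap_comp f r _ d₁, ← pullCl_XTmap_comp f _ (bmap W.subtype hWS) c₁,
        ← pullCl_XTmap_comp f _ (bmap W.subtype hWS) d₁, hL])
  rw [hP.natural _ _ _ _ hic₁, hP.natural _ _ _ _ hid₁, hP.natural _ _ _ _ hc, hP.natural _ _ _ _ hd, hc₁, hd₁] at key
  have hpt : (q' ≫ q ≫ v).left (closedPoint R) = closedPoint V := by
    show (Spec.map (CommRingCat.ofHom ρ) ≫ t ≫ v.left) (closedPoint R) = _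
    rw [Groth.L18.apply_closedPoint_of_isLocalHom ρ, Scheme.Hom.comp_apply, ht₀, hz]
  rw [← hpt]
  simp only [Over.comp_left, Scheme.Hom.comp_apply] at key ⊢
  exact key

include hP in
theorem isSeparated [IsLocallyNoetherian S] [IsProper f] [Smooth f] : IsSeparated P.hom := by
  haveI := Groth.L02.PicLft.locallyOfFinitePresentation hP
  refine Groth.L18.isSeparated_of_dvr_uniqueness P.hom fun x V hV g₁ g₂ hh h₁ h₂ => ?_
  let h := g₁ ≫ P.hom
  let G₁ : fpt h ⟶ P := Over.homMk g₁ rfl
  let G₂ : fpt h ⟶ P := Over.homMk g₂ hh.symm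
  have hcl : g₁ (closedPoint V) = g₂ (closedPoint V) :=
    closedPoint_eq_of_generic hP V h G₁ G₂ (Over.OverMorphism.ext (h₁.trans h₂.symm))
  obtain ⟨_, ⟨W, hW, rfl⟩, hxW, -⟩ :=
    P.left.isBasis_affineOpens.exists_subset_of_mem_open (Set.mem_univ (g₁ (closedPoint V))) isOpen_univ
  exact Groth.L18.ext_of_closedPoint_mem V.subtype Subtype.val_injective hW g₁ g₂ hxW (hcl ▸ hxW) (h₁.trans h₂.symm)

include hP in
theorem isProper_of_closed [IsLocallyNoetherian S] [IsProper f] [Smooth f] {Z : Scheme.{u}} (i : Z ⟶ P.left)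
    [IsClosedImmersion i] [LocallyOfFiniteType (i ≫ P.hom)] [QuasiCompact (i ≫ P.hom)] : IsProper (i ≫ P.hom) := by
  haveI := isSeparated hP
  haveI : IsSeparated (i ≫ P.hom) := inferInstance
  haveI : UniversallyClosed (i ≫ P.hom) := by
    refine Groth.L18.universallyClosed_of_dvrLift _ fun x V hV h hh => ?_
    haveI := hV
    let m : fpt (Spec.map (CommRingCat.ofHom V.subtype) ≫ h) ⟶ P :=
      Over.homMk (Z.fromSpecResidueField x ≫ i) ((Category.assoc _ _ _).trans hh.symm)
    obtain ⟨L, _, _, _, c, hc, hcm⟩ := exists_class_field hP _ m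
    obtain ⟨R, hR, ρ, hρ, hρL, hV'⟩ := exists_dvr_ext V L
    haveI := hR
    haveI := hρ
    let hRS : Spec (CommRingCat.of R) ⟶ S := Spec.map (CommRingCat.ofHom ρ) ≫ h
    have hsq : Spec.map (CommRingCat.ofHom R.subtype) ≫ Spec.map (CommRingCat.ofHom ρ) =
        Spec.map (CommRingCat.ofHom (algebraMap (Z.residueField x) L)) ≫ Spec.map (CommRingCat.ofHom V.subtype) := by
      rw [← Spec.map_comp, ← Spec.map_comp]
      exact congrArg Spec.map (CommRingCat.hom_ext (RingHom.ext hρL))
    let r : fpt (Spec.map (CommRingCat.ofHom (algebraMap R L)) ≫ hRS) ⟶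
        fpt (Spec.map (CommRingCat.ofHom (algebraMap (Z.residueField x) L)) ≫
          Spec.map (CommRingCat.ofHom V.subtype) ≫ h) := Over.homMk (𝟙 _) (by
      show 𝟙 _ ≫ _ = _
      rw [Category.id_comp]
      exact ((Category.assoc _ _ _).symm.trans (congrArg (· ≫ h) hsq.symm)).trans (Category.assoc _ _ _))
    obtain ⟨M, hM, hMi⟩ := PicLoc.isInvertibleCl_pullCl (PicF.XTmap f r) hc
    let ηR := bmap (algebraMap R L) hRS
    let j := PicF.XTmap f ηR
    obtain ⟨ϖ, hϖ⟩ := IsDiscreteValuationRing.exists_irreducible R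
    obtain ⟨hj, hjr⟩ := isOpenImmersion_generic R hϖ L
    haveI : IsOpenImmersion ηR.left := hj
    haveI : IsOpenImmersion j := MorphismProperty.of_isPullback (isPullback_XTmap f ηR).flip ‹IsOpenImmersion ηR.left›
    let g := PicF.XTproj f (fpt hRS)
    haveI : Smooth g := MorphismProperty.pullback_snd (P := @Smooth) _ _ inferInstance
    haveI : IsLocallyNoetherian (fpt hRS).left := inferInstanceAs (IsLocallyNoetherian (Spec (CommRingCat.of R)))
    haveI : IsLocallyNoetherian (PicF.XT f (fpt hRS)) := LocallyOfFiniteType.isLocallyNoetherian g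
    obtain ⟨L', hL', ⟨e'⟩⟩ := Groth.L21.Extend.exists_invertible_extension j.opensRange
      ((Scheme.Modules.pullback j.isoOpensRange.inv).obj M)
      (Groth.L18.Ample.isInvertible_pullback _ hMi) (fun y _ => by
        haveI := isRegularLocalRing_stalk_spec R (g y)
        haveI : IsRegularLocalRing ((fpt hRS).left.presheaf.stalk (g y)) :=
          isRegularLocalRing_stalk_spec R (g y)
        haveI := Groth.L11.SmRegular.isRegularLocalRing_stalk g y
        exact (Groth.Agent.S2821.result _).2)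
    have eM : (Scheme.Modules.pullback j).obj L' ≅ M :=
      (Scheme.Modules.pullbackCongr j.isoOpensRange_hom_ι.symm).app L' ≪≫
        ((Scheme.Modules.pullbackComp _ _).app L').symm ≪≫
        (Scheme.Modules.pullback j.isoOpensRange.hom).mapIso
          (((Scheme.Modules.restrictFunctorIsoPullback _).app L').symm ≪≫ e') ≪≫
        (Scheme.Modules.pullbackComp _ _).app M ≪≫
        (Scheme.Modules.pullbackCongr j.isoOpensRange.hom_inv_id).app M ≪≫
        (Scheme.Modules.pullbackId _).app M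
    let γ : fpt hRS ⟶ P := φ _ (PicF.cl L')
    have hγ : ηR ≫ γ = r ≫ bmap (algebraMap (Z.residueField x) L) _ ≫ m := by
      rw [← hP.natural _ _ ηR _ (isInvertibleCl_cl hL'), ← hcm, ← hP.natural _ _ r c hc, ← hM]
      exact congrArg (φ _) (cl_congr eM)
    have hγ' : Spec.map (CommRingCat.ofHom R.subtype) ≫ γ.left =
        Spec.map (CommRingCat.ofHom (algebraMap (Z.residueField x) L)) ≫ Z.fromSpecResidueField x ≫ i :=
      (congrArg CommaMorphism.left hγ).trans (Category.id_comp _)
    have hmem : γ.left (closedPoint R) ∈ Set.range i := by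
      have h1 : γ.left (Spec.map (CommRingCat.ofHom R.subtype) (closedPoint L)) ∈ Set.range i := by
        refine (congrArg (fun k => k (closedPoint L) ∈ Set.range i) hγ').mpr ?_
        exact ⟨(Spec.map (CommRingCat.ofHom (algebraMap (Z.residueField x) L)) ≫ Z.fromSpecResidueField x) (closedPoint L), rfl⟩
      exact ((IsLocalRing.specializes_closedPoint _).map γ.left.continuous).mem_closed
        i.isClosedEmbedding.isClosed_range h1
    let pr := pullback.snd i γ.left
    have hs : Function.Surjective (fun w => pr w) := fun p => by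
      obtain ⟨z, hz⟩ : γ.left p ∈ Set.range i := by
        rcases eq_or_ne p (closedPoint R) with rfl | hp
        · exact hmem
        · obtain ⟨p', rfl⟩ : p ∈ Set.range (Spec.map (CommRingCat.ofHom (algebraMap R L))) := by
            rw [hjr]
            intro hϖp
            refine hp (PrimeSpectrum.ext (IsLocalRing.eq_maximalIdeal (Ideal.IsPrime.isMaximal p.isPrime ?_)))
            exact fun h0 => hϖ.ne_zero (by rw [h0] at hϖp; exact hϖp)
          refine (congrArg (fun k => k p' ∈ Set.range i) hγ').mpr ?_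
          exact ⟨(Spec.map (CommRingCat.ofHom (algebraMap (Z.residueField x) L)) ≫ Z.fromSpecResidueField x) p', rfl⟩
      obtain ⟨w, -, hw⟩ := Scheme.exists_preimage_of_isPullback (IsPullback.of_hasPullback i γ.left) z p hz
      exact ⟨w, hw⟩
    haveI : Surjective pr := ⟨hs⟩
    haveI : IsReduced (fpt hRS).left := inferInstanceAs (IsReduced (Spec (CommRingCat.of R)))
    haveI : IsIso pr := isIso_of_isClosedImmersion_of_surjective pr
    let l : Spec (CommRingCat.of R) ⟶ Z := inv pr ≫ pullback.fst i γ.left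
    have hl : l ≫ i = γ.left := by rw [Category.assoc, pullback.condition]; exact IsIso.inv_hom_id_assoc pr _
    have hlgen : Spec.map (CommRingCat.ofHom R.subtype) ≫ l =
        Spec.map (CommRingCat.ofHom (algebraMap (Z.residueField x) L)) ≫ Z.fromSpecResidueField x := by
      exact (cancel_mono i).1 (((Category.assoc _ l i).trans ((congrArg (_ ≫ ·) hl).trans hγ')).trans (Category.assoc _ _ i).symm)
    obtain ⟨l', ⟨hl'ρ, hl'gen⟩, -⟩ := Groth.L18.existsUnique_descend R.subtype (algebraMap (Z.residueField x) L) V ρ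
      Subtype.val_injective hρL hV' (Z.fromSpecResidueField x) l hlgen
    have hclosed : (l' ≫ i ≫ P.hom) (closedPoint V) = h (closedPoint V) := by
      rw [← Groth.L18.apply_closedPoint_of_isLocalHom ρ (l' ≫ i ≫ P.hom),
        ← Groth.L18.apply_closedPoint_of_isLocalHom ρ h, ← Category.assoc, hl'ρ, ← Category.assoc, hl]
      exact congrArg (fun k => k (closedPoint R)) (Over.w γ)
    obtain ⟨_, ⟨W, hW, rfl⟩, hxW, -⟩ :=
      S.isBasis_affineOpens.exists_subset_of_mem_open (Set.mem_univ (h (closedPoint V))) isOpen_univ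
    exact ⟨l', Groth.L18.ext_of_closedPoint_mem V.subtype Subtype.val_injective hW _ h (hclosed ▸ hxW) hxW
      (by rw [reassoc_of% hl'gen, hh]), hl'gen⟩
  exact {}

end Groth.L02.PicProper
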