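import Groth.Agent.L02.PicProper.SpecialFibre
import Groth.Agent.L02.PicEtale.Basic
import Groth.Agent.L26.AbDual.Classes
import Groth.Prelude.Def_PicLoc
import Groth.Agent.L23.FibreDimComp
import Groth.Agent.L21.Smooth.Scheme
import Groth.Agent.L21.Extend.Gen
import Groth.Agent.L18.DominatingDVR
import Groth.Agent.L18.ValCrit2
import Mathlib.AlgebraicGeometry.Morphisms.Finite
import Mathlib.AlgebraicGeometry.Morphisms.QuasiFinite

/-!
# Classes over discrete valuation rings trivial on the generic fibre; classes over fields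
-/

set_option autoImplicit false
set_option linter.style.haveILetI false
set_option linter.unusedSectionVars false
set_option backward.isDefEq.respectTransparency false
set_option backward.isDefEq.respectTransparency.types false

universe u

open CategoryTheory CategoryTheory.Limits AlgebraicGeometry TopologicalSpace Opposite IsLocalRing

noncomputable section

namespace Groth.L02.PicProper

open Groth.L02.PicEtale

variable {X S : Scheme.{u}} (f : X ⟶ S)

/-- A field point of `S`. -/
abbrev fpt {A : Type u} [CommRing A] (h : Spec (CommRingCat.of A) ⟶ S) : Over S := Over.mk h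

/-- The map of points induced by a homomorphism. -/
abbrev bmap {A B : Type u} [CommRing A] [CommRing B] (g : A →+* B) (h : Spec (CommRingCat.of A) ⟶ S) :
    fpt (Spec.map (CommRingCat.ofHom g) ≫ h) ⟶ fpt h :=
  Over.homMk (Spec.map (CommRingCat.ofHom g)) rfl

theorem isOpenImmersion_generic (R : Type u) [CommRing R] [IsDomain R] [IsDiscreteValuationRing R] {ϖ : R}
    (hϖ : Irreducible ϖ) (K : Type u) [Field K] [Algebra R K] [IsFractionRing R K] :
    IsOpenImmersion (Spec.map (CommRingCat.ofHom (algebraMap R K))) ∧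
      Set.range (Spec.map (CommRingCat.ofHom (algebraMap R K))) =
        (PrimeSpectrum.basicOpen ϖ : Set (PrimeSpectrum R)) := by
  haveI : IsLocalization.Away ϖ K := by
    refine { map_units := ?_, surj := fun z => ?_, exists_of_eq := fun {a b} hab => ⟨1, ?_⟩ }
    · rintro ⟨_, n, rfl⟩
      exact isUnit_iff_ne_zero.2 fun h0 => pow_ne_zero n hϖ.ne_zero
        (IsFractionRing.injective R K (h0.trans (map_zero _).symm))
    · obtain ⟨⟨a, b, hb⟩, h⟩ := IsLocalization.surj (nonZeroDivisors R) z
      obtain ⟨n, v, rfl⟩ := IsDiscreteValuationRing.eq_unit_mul_pow_irreducible (nonZeroDivisors.ne_zero hb) hϖ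
      refine ⟨(a * (↑v⁻¹ : R), ⟨ϖ ^ n, n, rfl⟩), ?_⟩
      simp only [map_mul] at h ⊢
      rw [← h, mul_assoc, mul_comm (algebraMap R K (v : R)), mul_assoc, ← map_mul, Units.mul_inv,
        map_one, mul_one]
    · rw [IsFractionRing.injective R K hab]
  exact ⟨IsOpenImmersion.of_isLocalization ϖ, PrimeSpectrum.localization_away_comap_range K ϖ⟩

/-- A class trivial on the generic fibre of a smooth family over a DVR is trivial on the special fibre. -/
theorem nonempty_iso_closedFibre [Smooth f] {R : Type u} [CommRing R] [IsDomain R] [IsDiscreteValuationRing R]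
    {K : Type u} [Field K] [Algebra R K] [IsFractionRing R K] (h : Spec (CommRingCat.of R) ⟶ S)
    {L : (PicF.XT f (fpt h)).Modules} (hL : PicF.IsInvertible L)
    (e : Nonempty ((Scheme.Modules.pullback (PicF.XTmap f (bmap (algebraMap R K) h))).obj L ≅
      Coh.structureModule _)) :
    Nonempty ((Scheme.Modules.pullback (PicF.XTmap f (bmap (residue R) h))).obj L ≅ Coh.structureModule _) := by
  obtain ⟨ϖ, hϖ⟩ := IsDiscreteValuationRing.exists_irreducible R
  let Y := PicF.XT f (fpt h)
  let g : Y ⟶ Spec (CommRingCat.of R) := PicF.XTproj f (fpt h)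
  haveI : Smooth g := MorphismProperty.pullback_snd (P := @Smooth) _ _ inferInstance
  haveI : IsLocallyNoetherian Y := LocallyOfFiniteType.isLocallyNoetherian g
  let b : Γ(Spec (CommRingCat.of R), ⊤) := (Scheme.ΓSpecIso (CommRingCat.of R)).inv ϖ
  let a : Γ(Y, ⊤) := g.appTop b
  have hbo : Y.basicOpen a = g ⁻¹ᵁ (PrimeSpectrum.basicOpen ϖ : (Spec (CommRingCat.of R)).Opens) := by
    exact (Scheme.preimage_basicOpen g _).symm.trans
      (congrArg (g ⁻¹ᵁ ·) (basicOpen_eq_of_affine (R := CommRingCat.of R) ϖ))
  have hga : ∀ y, ga a y = g.stalkMap y ((Spec (CommRingCat.of R)).presheaf.germ ⊤ (g y) trivial b) := fun y =>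
    (Scheme.Hom.germ_stalkMap_apply g ⊤ y trivial b).symm
  have hreg : ∀ (y : Y) (r : Y.presheaf.stalk y), ga a y * r = 0 → r = 0 := by
    intro y r hr
    have hb : (Spec (CommRingCat.of R)).presheaf.germ ⊤ (g y) trivial b ≠ 0 := fun h0 => by
      have h2 := germ_injective_of_isIntegral (X := Spec (CommRingCat.of R)) (g y) (U := ⊤) trivial
        (h0.trans (map_zero _).symm)
      have := congrArg (Scheme.ΓSpecIso (CommRingCat.of R)).hom h2
      rw [map_zero] at this
      exact hϖ.ne_zero ((Iso.inv_hom_id_apply _ _).symm.trans this)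
    algebraize [(g.stalkMap y).hom]
    haveI : Module.Flat ((Spec (CommRingCat.of R)).presheaf.stalk (g y)) (Y.presheaf.stalk y) := Flat.stalkMap g y
    have hs : IsSMulRegular ((Spec (CommRingCat.of R)).presheaf.stalk (g y))
        ((Spec (CommRingCat.of R)).presheaf.germ ⊤ (g y) trivial b) :=
      fun x x' hxx => mul_left_cancel₀ hb hxx
    have hs' := IsSMulRegular.of_flat (S := Y.presheaf.stalk y) hs
    refine hs' (show _ • r = _ • (0 : Y.presheaf.stalk y) from ?_)
    rw [smul_zero, smul_eq_mul]
    exact ((congrArg (· * r) (hga y)).symm.trans hr)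
  have hspecial : ∀ y, y ∉ Y.basicOpen a → g y = closedPoint R := by
    intro y hy
    rw [hbo] at hy
    have hm : ϖ ∈ (g y).asIdeal := not_not.1 hy
    haveI := (g y).isPrime
    refine PrimeSpectrum.ext ?_
    have hne : (g y).asIdeal ≠ ⊥ := fun h0 => hϖ.ne_zero (by rw [h0] at hm; exact hm)
    exact IsLocalRing.eq_maximalIdeal (Ideal.IsPrime.isMaximal (g y).isPrime hne)
  have hpr : ∀ y, y ∉ Y.basicOpen a → (Ideal.span {ga a y}).IsPrime := by
    intro y hy
    have hcp := hspecial y hy
    have hm : maximalIdeal ((Spec (CommRingCat.of R)).presheaf.stalk (g y)) =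
        Ideal.span {(Spec (CommRingCat.of R)).presheaf.germ ⊤ (g y) trivial b} := by
      have key : ∀ (p : Spec (CommRingCat.of R)), p = closedPoint R →
          maximalIdeal ((Spec (CommRingCat.of R)).presheaf.stalk p) =
            Ideal.span {(Spec (CommRingCat.of R)).presheaf.germ ⊤ p trivial b} := by
        rintro p rfl
        let ι := (stalkClosedPointIso (CommRingCat.of R)).symm.commRingCatIsoToRingEquiv
        have h1 : (Spec (CommRingCat.of R)).presheaf.germ ⊤ (closedPoint R) trivial b = ι ϖ := by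
          have := congrArg (fun φ => φ.hom b) (ΓSpecIso_hom_stalkClosedPointIso_inv (CommRingCat.of R))
          refine this.symm.trans ?_
          show (stalkClosedPointIso (CommRingCat.of R)).inv
            ((Scheme.ΓSpecIso (CommRingCat.of R)).hom ((Scheme.ΓSpecIso (CommRingCat.of R)).inv ϖ)) = _
          rw [Iso.inv_hom_id_apply]
          rfl
        rw [h1, ← IsLocalRing.eq_maximalIdeal (Ideal.map_isMaximal_of_equiv ι (p := maximalIdeal R)),
          hϖ.maximalIdeal_eq, Ideal.map_span, Set.image_singleton]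
      exact key _ hcp
    obtain ⟨e⟩ := Groth.L23.FibComp.exists_equiv_fibre_stalk g y
    haveI : Smooth (g.fiberToSpecResidueField (g y)) :=
      MorphismProperty.pullback_snd (P := @Smooth) _ _ inferInstance
    haveI := Groth.L21.Smooth.regular_stalk (g.fiberToSpecResidueField (g y)) (g.asFiber y)
    haveI := Groth.L01.isDomain_of_regular ((g.fiber (g y)).presheaf.stalk (g.asFiber y))
    haveI := e.toMulEquiv.isDomain ((g.fiber (g y)).presheaf.stalk (g.asFiber y))
    have hp := (Ideal.Quotient.isDomain_iff_prime ((maximalIdeal ((Spec (CommRingCat.of R)).presheaf.stalk (g y))).map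
      (g.stalkMap y).hom)).1 inferInstance
    rw [hm, Ideal.map_span, Set.image_singleton, ← hga y] at hp
    exact hp
  let D := Y.basicOpen a
  obtain ⟨hj, hjr⟩ := isOpenImmersion_generic R hϖ K
  haveI := hj
  let l₀ := IsOpenImmersion.lift (Spec.map (CommRingCat.ofHom (algebraMap R K))) (D.ι ≫ g) (by
    rw [hjr]
    rintro _ ⟨y, rfl⟩
    have : D.ι y ∈ g ⁻¹ᵁ (PrimeSpectrum.basicOpen ϖ : (Spec (CommRingCat.of R)).Opens) := by
      rw [← hbo]; exact y.2
    exact this)
  let sq := isPullback_XTmap f (bmap (algebraMap R K) h)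
  let l := sq.lift D.ι l₀ (IsOpenImmersion.lift_fac _ _ _).symm
  have e2 : L.restrict D.ι ≅ Coh.structureModule (D : Scheme.{u}) :=
    (Scheme.Modules.restrictFunctorIsoPullback D.ι).app L ≪≫
      (Scheme.Modules.pullbackCongr (sq.lift_fst D.ι l₀ _).symm).app L ≪≫
      ((Scheme.Modules.pullbackComp l _).app L).symm ≪≫ (Scheme.Modules.pullback l).mapIso e.some ≪≫
      Groth.L29.LocFree.pullbackUnitIso l
  obtain ⟨t, ht⟩ := Groth.L21.Extend.exists_gen_of_iso L e2
  refine nonempty_iso_pullback a hreg hpr t hL ht _ fun z hz => ?_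
  rw [hbo] at hz
  have h1 : g (PicF.XTmap f (bmap (residue R) h) z) = closedPoint R := by
    rw [← Scheme.Hom.comp_apply, show PicF.XTmap f (bmap (residue R) h) ≫ g = _ from XTmap_snd f (bmap (residue R) h),
      Scheme.Hom.comp_apply]
    refine (congrArg (fun p => Spec.map (CommRingCat.ofHom (residue R)) p)
      (Subsingleton.elim (α := PrimeSpectrum (ResidueField R)) _ (closedPoint (ResidueField R)))).trans ?_
    exact IsLocalRing.comap_closedPoint (residue R)
  change g (PicF.XTmap f (bmap (residue R) h) z) ∈ PrimeSpectrum.basicOpen ϖ at hz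
  rw [h1] at hz
  exact hz hϖ.not_isUnit

/-- Discrete valuation rings extend to finite extensions. -/
theorem exists_dvr_ext {k : Type u} [Field k] (V : ValuationSubring k) [IsDiscreteValuationRing V] (L : Type u)
    [Field L] [Algebra k L] [Module.Finite k L] :
    ∃ (R : ValuationSubring L) (_ : IsDiscreteValuationRing R) (ρ : V →+* R) (_ : IsLocalHom ρ),
      (∀ v, R.subtype (ρ v) = algebraMap k L (v : k)) ∧ ∀ z, algebraMap k L z ∈ R.subtype.range → z ∈ V := by
  letI : Algebra V L := ((algebraMap k L).comp V.subtype).toAlgebra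
  haveI : IsScalarTower V k L := IsScalarTower.of_algebraMap_eq fun _ => rfl
  let bs := Module.Free.chooseBasis k L
  have hS : (Set.range bs).Finite := Set.finite_range bs
  have hgen : Subfield.closure (Set.range (algebraMap V L) ∪ Set.range bs) = ⊤ := by
    refine Groth.L18.closure_range_union_eq_top k (top_unique fun x _ => ?_)
    have hx : x ∈ Submodule.span k (Set.range bs) := by rw [bs.span_eq]; trivial
    refine Submodule.span_le (p := Subalgebra.toSubmodule (IntermediateField.adjoin k (Set.range bs)).toSubalgebra) |>.2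
      ?_ hx
    exact fun y hy => IntermediateField.subset_adjoin k _ hy
  have hker : RingHom.ker (algebraMap V L) ≠ maximalIdeal V := by
    rw [(RingHom.injective_iff_ker_eq_bot (algebraMap V L)).1 fun a b e => Subtype.ext ((algebraMap k L).injective e)]
    exact (IsDiscreteValuationRing.not_a_field V).symm
  obtain ⟨R, hR, hVR, hmR⟩ := Groth.L18.exists_isDiscreteValuationRing_dominating hS hgen hker
  let ρ : V →+* R := (algebraMap V L).codRestrict R.toSubring hVR
  have hz : ∀ z, algebraMap k L z ∈ R.subtype.range → z ∈ V := by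
    rintro z ⟨r, hr⟩
    rcases V.mem_or_inv_mem z with hz | hz
    · exact hz
    by_contra hzn
    have hz0 : z ≠ 0 := fun h => hzn (h ▸ V.zero_mem)
    have hm : (⟨z⁻¹, hz⟩ : V) ∈ maximalIdeal V := fun hu => hzn (by
      obtain ⟨w, hw⟩ := hu.exists_right_inv
      have hw' : z⁻¹ * (w : k) = 1 := congrArg Subtype.val hw
      rw [show z = (w : k) from by field_simp at hw'; exact hw'.symm]
      exact w.2)
    have h1 := hmR _ hm
    rw [show algebraMap V L ⟨z⁻¹, hz⟩ = (algebraMap k L z)⁻¹ from map_inv₀ (algebraMap k L) z, map_inv₀] at h1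
    have h2 : R.valuation (algebraMap k L z) ≤ 1 := (R.valuation_le_one_iff _).2 (by rw [← hr]; exact r.2)
    have h0 : R.valuation (algebraMap k L z) ≠ 0 := by simpa using hz0
    exact absurd h2 (not_le.2 ((inv_lt_one₀ (zero_lt_iff.2 h0)).1 h1))
  exact ⟨R, hR, ρ, Groth.L18.isLocalHom_descend R.subtype (algebraMap k L) V ρ Subtype.val_injective
    (fun _ => rfl) hz, fun _ => rfl, hz⟩

/-- An etale neighbourhood of a field point contains a finite extension. -/
theorem exists_finite_point {k : Type u} [Field k] (h : Spec (CommRingCat.of k) ⟶ S) {V : Over S}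
    (v : V ⟶ fpt h) [Etale v.left] [Nonempty V.left] :
    ∃ (L : Type u) (_ : Field L) (_ : Algebra k L) (_ : Module.Finite k L)
      (p : fpt (Spec.map (CommRingCat.ofHom (algebraMap k L)) ≫ h) ⟶ V), p ≫ v = bmap (algebraMap k L) h := by
  haveI : JacobsonSpace (fpt h).left := inferInstanceAs (JacobsonSpace (PrimeSpectrum k))
  haveI : JacobsonSpace V.left := LocallyOfFiniteType.jacobsonSpace v.left
  obtain ⟨z, -, hz⟩ := nonempty_inter_closedPoints (X := V.left) (Z := Set.univ) Set.univ_nonempty
    isClosed_univ.isLocallyClosed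
  haveI : LocallyOfFiniteType (V.left.fromSpecResidueField z) := isClosed_singleton_iff_locallyOfFiniteType.1 hz
  let q := V.left.fromSpecResidueField z ≫ v.left
  let ψ : k →+* V.left.residueField z := (Spec.preimage q).hom
  have hψ : Spec.map (CommRingCat.ofHom ψ) = q := by rw [CommRingCat.ofHom_hom, Spec.map_preimage]
  haveI : LocallyOfFiniteType (Spec.map (CommRingCat.ofHom ψ)) := by rw [hψ]; infer_instance
  have hft : ψ.FiniteType := (HasRingHomProperty.Spec_iff (P := @LocallyOfFiniteType)).1 ‹_›
  letI : Algebra k (V.left.residueField z) := ψ.toAlgebra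
  haveI : Algebra.FiniteType k (V.left.residueField z) := RingHom.finiteType_algebraMap.1 hft
  refine ⟨V.left.residueField z, inferInstance, ψ.toAlgebra, finite_of_finite_type_of_isJacobsonRing k _, ?_⟩
  refine ⟨Over.homMk (V.left.fromSpecResidueField z) ?_, Over.OverMorphism.ext hψ.symm⟩
  show _ = Spec.map (CommRingCat.ofHom ψ) ≫ h
  rw [hψ, ← Over.w v, Category.assoc]
  rfl

variable {f} {P : Over S} {φ : ∀ T : Over S, PicF.Cl (PicF.XT f T) → (T ⟶ P)} (hP : PicRel.IsRelPic f P φ)

include hP in
/-- A field valued point comes from a class after a finite extension. -/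
theorem exists_class_field {k : Type u} [Field k] (h : Spec (CommRingCat.of k) ⟶ S) (g : fpt h ⟶ P) :
    ∃ (L : Type u) (_ : Field L) (_ : Algebra k L) (_ : Module.Finite k L)
      (c : PicF.Cl (PicF.XT f (fpt (Spec.map (CommRingCat.ofHom (algebraMap k L)) ≫ h)))),
      PicF.IsInvertibleCl c ∧ φ _ c = bmap (algebraMap k L) h ≫ g := by
  obtain ⟨V, v, z, M, hv, -, hM, hMg⟩ := exists_class hP g (closedPoint k)
  haveI := hv
  haveI : Nonempty V.left := ⟨z⟩
  obtain ⟨L, _, _, _, p, hp⟩ := exists_finite_point h v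
  refine ⟨L, _, _, ‹_›, PicF.pullCl (PicF.XTmap f p) (PicF.cl M), PicLoc.isInvertibleCl_pullCl _ (isInvertibleCl_cl hM), ?_⟩
  rw [hP.natural _ _ p _ (isInvertibleCl_cl hM), hMg, reassoc_of% hp]

include hP in
/-- Classes with the same field valued point agree after a finite extension. -/
theorem exists_eq_field {k : Type u} [Field k] (h : Spec (CommRingCat.of k) ⟶ S)
    {c c' : PicF.Cl (PicF.XT f (fpt h))} (hc : PicF.IsInvertibleCl c) (hc' : PicF.IsInvertibleCl c')
    (e : φ _ c = φ _ c') :
    ∃ (L : Type u) (_ : Field L) (_ : Algebra k L) (_ : Module.Finite k L),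
      PicF.pullCl (PicF.XTmap f (bmap (algebraMap k L) h)) c = PicF.pullCl (PicF.XTmap f (bmap (algebraMap k L) h)) c' := by
  obtain ⟨ι, U, hU, hl⟩ := hP.locallyInjective _ c c' hc hc' e
  obtain ⟨i, y, -⟩ := hU (closedPoint k)
  haveI : Etale (PicRel.ovrHom (fpt h) (U i)).left := (U i).prop
  haveI : Nonempty (PicRel.ovr (fpt h) (U i)).left := ⟨y⟩
  obtain ⟨L, _, _, _, p, hp⟩ := exists_finite_point h (PicRel.ovrHom (fpt h) (U i))
  refine ⟨L, _, _, ‹_›, ?_⟩
  rw [← hp, ← pullCl_XTmap_comp, ← pullCl_XTmap_comp, hl i]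

end Groth.L02.PicProper
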