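import Groth.Agent.L18.Frame
import Groth.Agent.L18.Ample
import Groth.Agent.L22.PicGlue.GensIso
import Mathlib.RingTheory.Filtration

/-!
# Invertible modules trivial off a prime divisor are trivial on it
-/

set_option autoImplicit false
set_option linter.style.haveILetI false
set_option linter.unusedSectionVars false
set_option backward.isDefEq.respectTransparency false
set_option backward.isDefEq.respectTransparency.types false

universe u

open CategoryTheory AlgebraicGeometry TopologicalSpace Opposite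
open Groth.L18.Frame

noncomputable section

namespace Groth.L02.PicProper

variable {Y : Scheme.{u}} (a : Γ(Y, ⊤))

/-- The germ of `a`. -/
abbrev ga (y : Y) : Y.presheaf.stalk y := Y.presheaf.germ ⊤ y trivial a

theorem germ_ro {U V : Y.Opens} (h : V ≤ U) (y : Y) (hy : y ∈ V) (c : Γ(Y, U)) :
    Y.presheaf.germ V y hy (ro h c) = Y.presheaf.germ U y (h hy) c :=
  TopCat.Presheaf.germ_res_apply _ _ _ _ _

variable (hreg : ∀ (y : Y) (r : Y.presheaf.stalk y), ga a y * r = 0 → r = 0)

include hreg in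
/-- Functions are determined off the zero locus of a regular function. -/
theorem eq_of_eq_on_basicOpen {V : Y.Opens} {c d : Γ(Y, V)}
    (h : ro (inf_le_left : V ⊓ Y.basicOpen a ≤ V) c = ro inf_le_left d) : c = d := by
  refine TopCat.Presheaf.section_ext (⟨Y.presheaf, Y.sheaf.property⟩) V _ _ fun y hy => ?_
  obtain ⟨_, ⟨W, hW, rfl⟩, hyW, hWV⟩ := Y.isBasis_affineOpens.exists_subset_of_mem_open hy V.isOpen
  let aW : Γ(Y, W) := ro le_top a
  have hb : W ⊓ Y.basicOpen a = Y.basicOpen aW := (Y.basicOpen_res a _).symm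
  letI := (Y.presheaf.map (homOfLE (inf_le_left : W ⊓ Y.basicOpen a ≤ W)).op).hom.toAlgebra
  haveI := hW.isLocalization_of_eq_basicOpen aW (homOfLE inf_le_left) hb
  have h' : algebraMap Γ(Y, W) Γ(Y, W ⊓ Y.basicOpen a) (ro hWV c) = algebraMap _ _ (ro hWV d) := by
    show ro inf_le_left (ro hWV c) = ro inf_le_left (ro hWV d)
    have e := congrArg (ro (inf_le_inf_right _ hWV : W ⊓ Y.basicOpen a ≤ V ⊓ Y.basicOpen a)) h
    rwa [ro_ro, ro_ro] at e ⊢
  obtain ⟨⟨_, k, rfl⟩, hk⟩ := (IsLocalization.eq_iff_exists (Submonoid.powers aW) _).1 h'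
  have hk' := congrArg (Y.presheaf.germ W y hyW) hk
  simp only [map_mul, map_pow, aW] at hk'
  rw [germ_ro, germ_ro, germ_ro] at hk'
  have : ∀ (n : ℕ) (r : Y.presheaf.stalk y), ga a y ^ n * r = 0 → r = 0 := by
    intro n
    induction n with
    | zero => intro r hr; simpa using hr
    | succ n ih => intro r hr; exact hreg y r (ih _ (by rw [← hr, pow_succ, mul_assoc]))
  exact sub_eq_zero.1 (this k _ (by rw [mul_sub, sub_eq_zero]; exact hk'))

variable [IsLocallyNoetherian Y]

theorem exists_pow_mul {A : Type*} [CommRing A] [IsLocalRing A] [IsNoetherianRing A] {π r : A}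
    (hπ : ¬ IsUnit π) (hr : r ≠ 0) : ∃ (p : ℕ) (w : A), r = π ^ p * w ∧ ¬ π ∣ w := by
  classical
  have hne : Ideal.span {π} ≠ ⊤ := fun h => hπ (Ideal.span_singleton_eq_top.1 h)
  have : ∃ n, ¬ π ^ n ∣ r := by
    by_contra hall
    push_neg at hall
    refine hr ?_
    have : r ∈ (⨅ n : ℕ, Ideal.span {π} ^ n : Ideal A) := Ideal.mem_iInf.2 fun n => by
      rw [Ideal.span_singleton_pow, Ideal.mem_span_singleton]; exact hall n
    rwa [Ideal.iInf_pow_eq_bot_of_isLocalRing _ hne] at this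
  have h0 : Nat.find this ≠ 0 := fun h => (h ▸ Nat.find_spec this) (by simp)
  obtain ⟨p, hp⟩ := Nat.exists_eq_succ_of_ne_zero h0
  obtain ⟨w, hw⟩ := not_not.1 (Nat.find_min this (hp ▸ p.lt_succ_self))
  refine ⟨p, w, hw, fun ⟨v, hv⟩ => Nat.find_spec this ⟨v, ?_⟩⟩
  rw [hp, hw, hv, pow_succ, mul_assoc]

variable (hpr : ∀ y : Y, y ∉ Y.basicOpen a → (Ideal.span {ga a y}).IsPrime)
variable {L : Y.Modules} (t : Γ(L, Y.basicOpen a))

include hreg hpr in
/-- Near a point of the divisor a trivialisation off it is a power of the equation times a frame. -/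
theorem exists_frame_pow (hL : PicF.IsInvertible L) (ht : IsFrame L (Y.basicOpen a) t) (y : Y)
    (hy : y ∉ Y.basicOpen a) :
    ∃ (W : Y.Opens) (e : Γ(L, W)) (m p : ℕ), y ∈ W ∧ IsFrame L W e ∧
      (ro le_top a : Γ(Y, W ⊓ Y.basicOpen a)) ^ m • rs L (inf_le_right : W ⊓ Y.basicOpen a ≤ Y.basicOpen a) t =
        (ro le_top a : Γ(Y, W ⊓ Y.basicOpen a)) ^ p • rs L (inf_le_left : W ⊓ Y.basicOpen a ≤ W) e := by
  obtain ⟨W₀, e₀, hyW₀, he₀⟩ := exists_frame hL y
  obtain ⟨_, ⟨W, hW, rfl⟩, hyW, hWW₀⟩ := Y.isBasis_affineOpens.exists_subset_of_mem_open hyW₀ W₀.isOpen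
  let e := rs L hWW₀ e₀
  have he : IsFrame L W e := he₀.mono hWW₀
  let D := W ⊓ Y.basicOpen a
  let aW : Γ(Y, W) := ro le_top a
  have hb : D = Y.basicOpen aW := (Y.basicOpen_res a _).symm
  letI := (Y.presheaf.map (homOfLE (inf_le_left : D ≤ W)).op).hom.toAlgebra
  haveI := hW.isLocalization_of_eq_basicOpen aW (homOfLE inf_le_left) hb
  obtain ⟨c, hc⟩ := he.exists_coeff (inf_le_left : D ≤ W) (rs L inf_le_right t)
  obtain ⟨c', hc'⟩ := (ht.mono (inf_le_right : D ≤ Y.basicOpen a)).exists_coeff le_rfl (rs L inf_le_left e)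
  rw [rs_self] at hc'
  have hcc : c' * c = 1 := he.inj inf_le_left (by rw [mul_smul, hc, hc', one_smul])
  obtain ⟨⟨r, _, m, rfl⟩, hr⟩ := IsLocalization.surj (Submonoid.powers aW) c
  obtain ⟨⟨r', _, m', rfl⟩, hr'⟩ := IsLocalization.surj (Submonoid.powers aW) c'
  change c * ro inf_le_left (aW ^ m) = ro inf_le_left r at hr
  change c' * ro inf_le_left (aW ^ m') = ro inf_le_left r' at hr'
  have hprod : r * r' = aW ^ (m + m') := eq_of_eq_on_basicOpen a hreg (by
    show ro inf_le_left (r * r') = ro inf_le_left (aW ^ (m + m'))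
    rw [pow_add, ro_mul, ro_mul, ← hr, ← hr', mul_mul_mul_comm, mul_comm c c', hcc, one_mul])
  have hg := congrArg (Y.presheaf.germ W y hyW) hprod
  simp only [map_mul, map_pow, aW] at hg
  rw [germ_ro] at hg
  set π := ga a y with hπ
  have hπu : ¬ IsUnit π := fun h => hy ((Y.mem_basicOpen_top a y).2 h)
  have hπ0 : π ≠ 0 := fun h => one_ne_zero (hreg y 1 (by rw [← hπ, h, zero_mul]))
  haveI := hpr y hy
  have hP : Prime π := (Ideal.span_singleton_prime hπ0).1 ‹_›
  have hne : π ^ (m + m') ≠ 0 := by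
    intro h
    have : ∀ n, π ^ n ≠ 0 := by
      intro n
      induction n with
      | zero => simp
      | succ n ih => exact fun h => ih (hreg y _ (by rw [← pow_succ', h]))
    exact this _ h
  obtain ⟨p, w, hw, hwd⟩ := exists_pow_mul (r := Y.presheaf.germ W y hyW r) hπu
    (fun h => hne (by rw [← hg, h, zero_mul]))
  obtain ⟨q, w', hw', hwd'⟩ := exists_pow_mul (r := Y.presheaf.germ W y hyW r') hπu
    (fun h => hne (by rw [← hg, h, mul_zero]))
  have cancel : ∀ (n : ℕ) (u v : Y.presheaf.stalk y), π ^ n * u = π ^ n * v → u = v := by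
    intro n
    induction n with
    | zero => intro u v h; simpa using h
    | succ n ih =>
      intro u v h
      refine ih u v (sub_eq_zero.1 (hreg y _ ?_))
      rw [mul_sub, ← mul_assoc, ← mul_assoc, ← pow_succ', h, sub_self]
  have hww : π ^ (p + q) * (w * w') = π ^ (m + m') * 1 := by
    rw [mul_one, ← hg, hw, hw', pow_add]; ring
  have hnd : ¬ π ∣ w * w' := fun h => (hP.dvd_or_dvd h).elim hwd hwd'
  have hone : IsUnit w := by
    rcases le_or_gt (p + q) (m + m') with hle | hlt
    · obtain ⟨d, hd⟩ := Nat.exists_eq_add_of_le hle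
      rw [hd, pow_add _ (p + q) d, mul_assoc] at hww
      have := cancel _ _ _ hww
      rw [mul_one] at this
      cases d with
      | zero => exact IsUnit.of_mul_eq_one w' (by rw [this, pow_zero])
      | succ d => exact absurd (this ▸ dvd_pow_self π d.succ_ne_zero) hnd
    · obtain ⟨d, hd⟩ := Nat.exists_eq_add_of_lt hlt
      rw [hd, add_assoc, pow_add _ (m + m'), mul_assoc] at hww
      exact absurd (IsUnit.of_mul_eq_one _ ((congrArg (· * 1) (cancel _ _ _ hww)).trans (one_mul 1)) :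
        IsUnit (π ^ (d + 1) * (w * w'))) (fun h => hπu ((isUnit_pow_iff d.succ_ne_zero).1 (isUnit_of_mul_isUnit_left h)))
  obtain ⟨U, hyU, w₁, hw₁⟩ := TopCat.Presheaf.exists_germ_eq Y.presheaf w
  obtain ⟨U', hU', hyU', hunit⟩ := RingedSpace.isUnit_res_of_isUnit_germ Y.toLocallyRingedSpace.toRingedSpace U w₁ y hyU
    (by rw [hw₁]; exact hone)
  obtain ⟨V, hyV, iW, iU, hV⟩ := TopCat.Presheaf.germ_eq Y.presheaf (U := W) (V := U') y hyW hyU' r
    (ro le_top a ^ p * Y.presheaf.map hU'.op w₁) (by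
      rw [map_mul, map_pow, germ_ro, TopCat.Presheaf.germ_res_apply]
      exact hw.trans (by rw [← hw₁]))
  let w₂ : Γ(Y, V) := ro iU.le (Y.presheaf.map hU'.op w₁)
  have hw₂ : IsUnit w₂ := hunit.map (Y.presheaf.map (homOfLE iU.le).op).hom
  refine ⟨V, w₂ • rs L iW.le e, m, p, hyV, (he.mono iW.le).smul_unit hw₂, ?_⟩
  have hV' : ro iW.le r = (ro le_top a) ^ p * w₂ := by
    refine hV.trans ?_
    rw [map_mul, map_pow]
    congr 2
    exact (ro_ro _ _ a)
  let i : V ⊓ Y.basicOpen a ≤ D := inf_le_inf_right _ iW.le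
  have h1 : (ro le_top a : Γ(Y, D)) ^ m • rs L (inf_le_right : D ≤ Y.basicOpen a) t =
      ro (inf_le_left : D ≤ W) r • rs L (inf_le_left : D ≤ W) e := by
    rw [← hc, ← mul_smul, ← hr, mul_comm]
    congr 2
    show _ = ro inf_le_left (aW ^ m)
    simp only [ro, aW, map_pow]
    congr 1
    exact (ro_ro _ _ a).symm
  have h2 := congrArg (rs L i) h1
  rw [rs_smul, rs_smul, rs_rs, rs_rs] at h2
  simp only [map_pow, ro] at h2
  change (ro i (ro le_top a)) ^ m • _ = ro i (ro inf_le_left r) • _ at h2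
  rw [ro_ro, ro_ro] at h2
  refine h2.trans ?_
  rw [rs_smul, rs_rs, ← mul_smul]
  congr 1
  have h3 := congrArg (ro (inf_le_left : V ⊓ Y.basicOpen a ≤ V)) hV'
  rw [ro_mul, ro_ro] at h3
  refine h3.trans ?_
  congr 1
  simp only [ro, map_pow]
  congr 1
  exact ro_ro _ _ a
  simp only [e, rs_rs]

include hreg hpr in
/-- An invertible module trivial off a prime divisor is trivial on schemes mapping into the divisor. -/
theorem nonempty_iso_pullback (hL : PicF.IsInvertible L) (ht : IsFrame L (Y.basicOpen a) t) {Z : Scheme.{u}}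
    (u : Z ⟶ Y) (hu : ∀ z, u z ∉ Y.basicOpen a) :
    Nonempty ((Scheme.Modules.pullback u).obj L ≅ Coh.structureModule Z) := by
  choose W e m p hW he hrel using fun z : Z => exists_frame_pow a hreg hpr t hL ht (u z) (hu z)
  let N := (Scheme.Modules.pullback u).obj L
  let E : ∀ z, Γ(N, u ⁻¹ᵁ W z) := fun z => pull u L (W z) (e z)
  have hE : ∀ z, IsFrame N (u ⁻¹ᵁ W z) (E z) := fun z => IsFrame.pullback u L (he z)
  refine Groth.L22.PicGlue.nonempty_iso_of_gens (fun z => u ⁻¹ᵁ W z) (e := E)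
    (e' := fun z => (1 : Γ(Z, u ⁻¹ᵁ W z))) (fun z => hE z) (fun z V h => ?_) (fun z => ⟨z, hW z⟩) ?_
  · have : (fun b : Γ(Z, V) => b • Groth.L21.Extend.rs (Coh.structureModule Z) h (1 : Γ(Z, u ⁻¹ᵁ W z))) = id := by
      funext b
      show b * (Z.presheaf.map (homOfLE h).op) 1 = b
      rw [map_one, mul_one]
    rw [this]
    exact Function.bijective_id
  intro i j V hi hj x hx
  let O := W i ⊓ W j
  let D := O ⊓ Y.basicOpen a
  obtain ⟨c, hc⟩ := (he i).exists_coeff (inf_le_left : O ≤ W i) (rs L inf_le_right (e j))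
  obtain ⟨c', hc'⟩ := (he j).exists_coeff (inf_le_right : O ≤ W j) (rs L inf_le_left (e i))
  have hcu : IsUnit c := IsUnit.of_mul_eq_one c' ((he i).inj inf_le_left (by
    rw [one_smul, mul_comm, mul_smul, hc, hc']))
  let aD : Γ(Y, D) := ro le_top a
  have R : ∀ (k : Z) (h : O ≤ W k), aD ^ m k • rs L (inf_le_right : D ≤ Y.basicOpen a) t =
      aD ^ p k • rs L (inf_le_left.trans h : D ≤ W k) (e k) := fun k h => by
    have := congrArg (rs L (inf_le_inf_right _ h : D ≤ W k ⊓ Y.basicOpen a)) (hrel k)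
    rw [rs_smul, rs_smul, rs_rs, rs_rs] at this
    simp only [ro, map_pow] at this
    convert this using 3 <;> exact (ro_ro _ _ a).symm
  have hcD : ro (inf_le_left : D ≤ O) c • rs L (inf_le_left.trans inf_le_left : D ≤ W i) (e i) =
      rs L (inf_le_left.trans inf_le_right : D ≤ W j) (e j) := by
    have := congrArg (rs L (inf_le_left : D ≤ O)) hc
    rwa [rs_smul, rs_rs, rs_rs] at this
  have key : (ro le_top a : Γ(Y, O)) ^ (m i + p j) * c = (ro le_top a) ^ (m j + p i) :=
    eq_of_eq_on_basicOpen a hreg (by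
      rw [ro_mul]
      simp only [ro, map_pow]
      change (ro _ (ro _ a)) ^ _ * ro _ c = (ro _ (ro _ a)) ^ _
      rw [ro_ro]
      refine (he i).inj (inf_le_left.trans inf_le_left) ?_
      show (aD ^ (m i + p j) * _) • _ = aD ^ (m j + p i) • _
      rw [mul_smul, hcD, pow_add, mul_smul, ← R j inf_le_right, ← mul_smul, mul_comm, mul_smul, R i inf_le_left,
        ← mul_smul, ← pow_add])
  have hx1 : x = 1 := by
    have hVO : V ≤ u ⁻¹ᵁ O := le_inf hi hj
    have hxc : x = ro hVO (u.app O c) := by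
      refine (hE i).inj hi (hx.trans ?_)
      have h1 := congrArg (pull u L O) hc
      rw [pull_smul, ← pull_rs, ← pull_rs] at h1
      have h2 := congrArg (rs N hVO) h1
      rw [rs_smul, rs_rs, rs_rs] at h2
      exact h2.symm
    rw [hxc]
    refine TopCat.Presheaf.section_ext (⟨Z.presheaf, Z.sheaf.property⟩) V _ _ fun z hz => ?_
    show Z.presheaf.germ V z hz (ro hVO (u.app O c)) = Z.presheaf.germ V z hz 1
    rw [germ_ro, map_one, ← Scheme.Hom.germ_stalkMap_apply]
    have hg := congrArg (Y.presheaf.germ O (u z) (hVO hz)) key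
    simp only [map_mul, map_pow] at hg
    rw [germ_ro] at hg
    set π := ga a (u z)
    set γ := Y.presheaf.germ O (u z) (hVO hz) c
    have hπu : ¬ IsUnit π := fun h => hu z ((Y.mem_basicOpen_top a _).2 h)
    have hγ : IsUnit γ := hcu.map _
    have cancel : ∀ (n : ℕ) (s v : Y.presheaf.stalk (u z)), π ^ n * s = π ^ n * v → s = v := by
      intro n
      induction n with
      | zero => intro s v h; simpa using h
      | succ n ih =>
        intro s v h
        refine ih s v (sub_eq_zero.1 (hreg _ _ ?_))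
        rw [mul_sub, ← mul_assoc, ← mul_assoc, ← pow_succ', h, sub_self]
    rcases lt_trichotomy (m i + p j) (m j + p i) with hlt | heq | hgt
    · obtain ⟨d, hd⟩ := Nat.exists_eq_add_of_lt hlt
      rw [hd, add_assoc, pow_add _ (m i + p j)] at hg
      exact absurd ((isUnit_pow_iff d.succ_ne_zero).1 (cancel _ _ _ hg ▸ hγ)) hπu
    · rw [heq] at hg
      rw [cancel _ γ 1 (by rw [hg, mul_one]), map_one]
    · obtain ⟨d, hd⟩ := Nat.exists_eq_add_of_lt hgt
      rw [hd, add_assoc, pow_add _ (m j + p i), mul_assoc] at hg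
      have := cancel _ _ 1 (by rw [hg, mul_one])
      exact absurd ((isUnit_pow_iff d.succ_ne_zero).1 (IsUnit.of_mul_eq_one _ this)) hπu
  subst hx1
  show (1 : Γ(Z, V)) • _ = _
  rw [one_smul]
  show (Z.presheaf.map (homOfLE hi).op) 1 = (Z.presheaf.map (homOfLE hj).op) 1
  rw [map_one, map_one]

end Groth.L02.PicProper
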